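import Groth.Prelude.Def_EtRam
import Mathlib.RingTheory.DedekindDomain.IntegralClosure
import Mathlib.RingTheory.DedekindDomain.Dvr
import Mathlib.RingTheory.Valuation.LocalSubring
import Mathlib.RingTheory.Valuation.ValuationSubring
import Mathlib.RingTheory.DiscreteValuationRing.Basic
import Mathlib.RingTheory.DiscreteValuationRing.TFAE
import Mathlib.NumberTheory.RamificationInertia.Ramification
import Mathlib.FieldTheory.SeparableDegree
import Mathlib.RingTheory.LocalRing.ResidueField.Basic

/-!
# Ramification in towers of finite separable extensions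
-/

set_option autoImplicit false
set_option linter.style.haveILetI false

universe u

open IsLocalRing

namespace Groth.Agent.EtRamTower

variable {A : Type u} [CommRing A] [IsDomain A] [IsDiscreteValuationRing A]

/-- A valuation subring of a finite separable extension dominating a DVR is a DVR. -/
theorem isDVR_of_dominates {K L : Type u} [Field K] [Algebra A K] [IsFractionRing A K] [Field L]
    [Algebra K L] [FiniteDimensional K L] [Algebra.IsSeparable K L]
    (V : ValuationSubring L) (hV : EtRam.Dominates A ((algebraMap K L).comp (algebraMap A K)) V) :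
    IsDiscreteValuationRing V := by
  letI : Algebra A L := ((algebraMap K L).comp (algebraMap A K)).toAlgebra
  haveI : IsScalarTower A K L := IsScalarTower.of_algebraMap_eq' rfl
  let gV : A →+* V := RingHom.codRestrict _ V hV.1
  let B := integralClosure A L
  haveI : IsDedekindDomain B := integralClosure.isDedekindDomain A K L
  haveI : IsFractionRing B L := integralClosure.isFractionRing_of_finite_extension K L
  have hBV : ∀ b : B, (b : L) ∈ V := fun b => by
    have hb : IsIntegral A (b : L) := b.2
    obtain ⟨p, hp, hp0⟩ := hb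
    have : IsIntegral V (b : L) := ⟨p.map gV, hp.map _, by
      rw [Polynomial.eval₂_map]
      exact hp0⟩
    obtain ⟨y, hy⟩ := IsIntegrallyClosed.isIntegral_iff.1 this
    exact hy ▸ y.2
  let j : B →+* V := RingHom.codRestrict B.val.toRingHom V hBV
  let P : Ideal B := (maximalIdeal V).comap j
  haveI : P.IsPrime := Ideal.IsPrime.comap j
  obtain ⟨π, hπ⟩ := IsDiscreteValuationRing.exists_irreducible A
  have hπP : algebraMap A B π ∈ P :=
    (ValuationSubring.valuation_lt_one_iff V _).2 (hV.2 π hπ.not_isUnit)
  have hginj : Function.Injective (algebraMap A L) :=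
    (algebraMap K L).injective.comp (IsFractionRing.injective A K)
  have hP : P ≠ ⊥ := fun h => hπ.ne_zero (hginj (by
    rw [h, Ideal.mem_bot] at hπP
    simpa using congrArg Subtype.val hπP))
  let BP := Localization.AtPrime P
  haveI : IsDiscreteValuationRing BP :=
    IsLocalization.AtPrime.isDiscreteValuationRing_of_dedekind_domain B hP BP
  have hu : ∀ y : P.primeCompl, IsUnit (j y) := fun y => not_not.1 y.2
  let h : BP →+* V := IsLocalization.lift hu
  haveI : IsLocalHom h := ⟨fun x hx => by
    obtain ⟨⟨b, s⟩, hbs⟩ := IsLocalization.surj P.primeCompl x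
    have hb : IsUnit (j b) := by
      rw [← IsLocalization.lift_eq (S := BP) hu b, ← hbs, map_mul, IsLocalization.lift_eq]
      exact hx.mul (hu s)
    have hbP : b ∈ P.primeCompl := fun hbP => hbP hb
    have := IsLocalization.map_units BP (⟨b, hbP⟩ : P.primeCompl)
    rw [← hbs] at this
    exact isUnit_of_mul_isUnit_left this⟩
  have hle : P.primeCompl ≤ nonZeroDivisors B := P.primeCompl_le_nonZeroDivisors
  letI : Algebra BP L := (V.subtype.comp h).toAlgebra
  haveI : IsScalarTower B BP L := IsScalarTower.of_algebraMap_eq fun b => by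
    change (b : L) = (h (algebraMap B BP b) : L)
    rw [IsLocalization.lift_eq]
    rfl
  haveI : IsFractionRing BP L :=
    IsFractionRing.isFractionRing_of_isDomain_of_isLocalization P.primeCompl BP L
  obtain ⟨hinj, hsurj⟩ := bijective_rangeRestrict_comp_of_valuationRing h V.subtype rfl
  have hbij : Function.Bijective h := ⟨fun a b hab => hinj (by simp [hab]), fun v => by
    obtain ⟨a, ha⟩ := hsurj ⟨v, v, rfl⟩
    have e := congrArg (fun z : V.subtype.range => (z : L)) ha
    exact ⟨a, Subtype.ext (by simpa using e)⟩⟩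
  exact IsDiscreteValuationRing.RingEquivClass.isDiscreteValuationRing (RingEquiv.ofBijective h hbij)

/-- The maximal ideal of a DVR extends to a power of the maximal ideal. -/
theorem exists_map_eq_pow {V W : Type u} [CommRing V] [IsDomain V] [IsDiscreteValuationRing V]
    [CommRing W] [IsDomain W] [IsDiscreteValuationRing W] (f : V →+* W) (hf : Function.Injective f) :
    ∃ e : ℕ, (maximalIdeal V).map f = maximalIdeal W ^ e := by
  obtain ⟨π, hπ⟩ := IsDiscreteValuationRing.exists_irreducible V
  obtain ⟨ϖ, hϖ⟩ := IsDiscreteValuationRing.exists_irreducible W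
  obtain ⟨n, hn⟩ := IsDiscreteValuationRing.associated_pow_irreducible
    (x := f π) (fun h => hπ.ne_zero (hf (by rw [h, map_zero]))) hϖ
  refine ⟨n, ?_⟩
  rw [hπ.maximalIdeal_eq, hϖ.maximalIdeal_eq, Ideal.map_span, Set.image_singleton,
    Ideal.span_singleton_pow, Ideal.span_singleton_eq_span_singleton]
  exact hn

theorem pow_inj {W : Type u} [CommRing W] [IsDomain W] [IsDiscreteValuationRing W] {m n : ℕ}
    (h : maximalIdeal W ^ m = maximalIdeal W ^ n) : m = n := by
  exact (Ideal.pow_right_strictAnti (maximalIdeal W) (IsDiscreteValuationRing.not_a_field W)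
    (maximalIdeal.isMaximal W).ne_top).injective h

theorem ramificationIdx_eq {V W : Type u} [CommRing V] [IsLocalRing V]
    [CommRing W] [IsDomain W] [IsDiscreteValuationRing W] [Algebra V W] {e : ℕ}
    (he : (maximalIdeal V).map (algebraMap V W) = maximalIdeal W ^ e) :
    Ideal.ramificationIdx' (maximalIdeal V) (maximalIdeal W) = e := by
  refine Ideal.ramificationIdx'_spec he.le fun h => ?_
  rw [he] at h
  exact absurd (pow_inj (le_antisymm h (Ideal.pow_le_pow_right (Nat.le_succ e)))) (Nat.succ_ne_self e).symm

end Groth.Agent.EtRamTower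

namespace Groth.Agent.EtRamTower

variable {A : Type u} [CommRing A] [IsLocalRing A] {L M : Type u} [Field L] [Field M]

theorem isLocalHom_codRestrict {g : A →+* L} {V : ValuationSubring L}
    (h : EtRam.Dominates A g V) : IsLocalHom (RingHom.codRestrict g V h.1) := by
  refine ⟨fun a ha => ?_⟩
  by_contra hu
  have := h.2 a hu
  rw [show g a = ((RingHom.codRestrict g V h.1 a : V) : L) from rfl] at this
  exact ((ValuationSubring.valuation_lt_one_iff V _).2 this) ha

theorem dominates_iff {g : A →+* L} {V : ValuationSubring L} :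
    EtRam.Dominates A g V ↔ ∃ h : ∀ a, g a ∈ V, IsLocalHom (RingHom.codRestrict g V h) :=
  ⟨fun h => ⟨h.1, isLocalHom_codRestrict h⟩, fun ⟨h, hl⟩ => ⟨h, fun a ha =>
    (ValuationSubring.valuation_lt_one_iff V (RingHom.codRestrict g V h a)).1
      (fun hu => ha (hl.map_nonunit a hu))⟩⟩

variable (ι : L →+* M)

theorem isLocalHom_comap (W : ValuationSubring M) :
    IsLocalHom (EtRam.inclOfComap W ι) := by
  refine ⟨fun x hx => ?_⟩
  have h0 : (x : L) ≠ 0 := fun h => hx.ne_zero (Subtype.ext (by
    simp [EtRam.inclOfComap, h]))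
  obtain ⟨y, hy⟩ := isUnit_iff_exists_inv.1 hx
  have hy' : ι (x : L) * (y : M) = 1 := congrArg Subtype.val hy
  have : ι ((x : L)⁻¹) ∈ W := by
    rw [map_inv₀, inv_eq_of_mul_eq_one_right hy']
    exact y.2
  exact isUnit_iff_exists_inv.2 ⟨⟨(x : L)⁻¹, this⟩, Subtype.ext (mul_inv_cancel₀ h0)⟩

theorem dominates_subtype (W : ValuationSubring M) :
    EtRam.Dominates (W.comap ι) (ι.comp (W.comap ι).subtype) W :=
  dominates_iff.2 ⟨fun a => a.2, isLocalHom_comap ι W⟩

theorem dominates_comap {g : A →+* L} {W : ValuationSubring M}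
    (h : EtRam.Dominates A (ι.comp g) W) : EtRam.Dominates A g (W.comap ι) := by
  refine dominates_iff.2 ⟨h.1, ⟨fun a ha => ?_⟩⟩
  exact (isLocalHom_codRestrict h).map_nonunit a (ha.map (EtRam.inclOfComap W ι))

theorem exists_over {g : A →+* L} {V : ValuationSubring L} (h : EtRam.Dominates A g V) :
    ∃ W : ValuationSubring M, W.comap ι = V ∧ EtRam.Dominates A (ι.comp g) W := by
  obtain ⟨W, hW, hloc⟩ := IsLocalRing.exists_factor_valuationRing (ι.comp V.subtype)
  refine ⟨W, ?_, dominates_iff.2 ⟨fun a => hW ⟨g a, h.1 a⟩, ?_⟩⟩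
  · refine le_antisymm (fun x hx => ?_) (fun x hx => hW ⟨x, hx⟩)
    rcases V.mem_or_inv_mem x with h1 | h1
    · exact h1
    · by_cases h0 : x = 0
      · rw [h0]; exact V.zero_mem
      · have : IsUnit (⟨x⁻¹, h1⟩ : V) := hloc.map_nonunit _ (isUnit_iff_exists_inv.2
          ⟨⟨ι x, hx⟩, Subtype.ext (by
            change ι x⁻¹ * ι x = 1
            rw [← map_mul, inv_mul_cancel₀ h0, map_one])⟩)
        obtain ⟨y, hy⟩ := isUnit_iff_exists_inv.1 this
        have hy' : x⁻¹ * (y : L) = 1 := congrArg Subtype.val hy
        rw [inv_mul_eq_one₀ h0] at hy'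
        rw [hy']; exact y.2
  · haveI := hloc
    haveI := isLocalHom_codRestrict h
    exact RingHom.isLocalHom_comp ((ι.comp V.subtype).codRestrict W.toSubring hW)
      (RingHom.codRestrict g V h.1)

end Groth.Agent.EtRamTower
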